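import Mathlib

/-!
Finitely generated and finitely presented modules over Bézout domains.
-/

namespace Groth.Agent.Bezout

universe u v

variable {R : Type u} [CommRing R] [IsDomain R] [IsBezout R]

/-- The kernel of a form on a finitely generated module is a finitely generated direct summand, and
the module is the kernel times a free module. -/
theorem exists_splitting {N : Type v} [AddCommGroup N] [Module R N] [Module.Finite R N]
    (φ : N →ₗ[R] R) :
    Module.Finite R (LinearMap.ker φ) ∧
      Nonempty (N ≃ₗ[R] LinearMap.ker φ × LinearMap.range φ) ∧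
      Module.Free R (LinearMap.range φ) := by
  have hI : (LinearMap.range φ).FG := by
    rw [← Submodule.map_top]; exact Module.Finite.fg_top.map φ
  have hP : Submodule.IsPrincipal (LinearMap.range φ) := IsBezout.isPrincipal_of_FG _ hI
  obtain ⟨a, ha⟩ := hP.principal
  have hfree : Module.Free R (LinearMap.range φ) := by
    by_cases ha0 : a = 0
    · have : Subsingleton (LinearMap.range φ) := by
        rw [ha, ha0, Submodule.span_singleton_eq_bot.2 rfl]; infer_instance
      infer_instance
    · rw [ha]
      exact Module.Free.of_equiv (LinearEquiv.toSpanNonzeroSingleton R R a ha0)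
  have : Module.Finite R (LinearMap.range φ) := Module.Finite.iff_fg.2 hI
  obtain ⟨σ, hσ⟩ := Module.projective_lifting_property φ.rangeRestrict LinearMap.id
    φ.surjective_rangeRestrict
  have hσ' : ∀ y, φ (σ y) = y := fun y => congrArg Subtype.val (LinearMap.congr_fun hσ y)
  let π : N →ₗ[R] LinearMap.ker φ := LinearMap.codRestrict _ (LinearMap.id - σ ∘ₗ φ.rangeRestrict)
    fun x => by simp [hσ']
  let e : N ≃ₗ[R] LinearMap.ker φ × LinearMap.range φ :=
    LinearEquiv.ofLinear (π.prod φ.rangeRestrict) ((LinearMap.ker φ).subtype.coprod σ)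
      (by
        refine LinearMap.ext fun ⟨⟨k, hk⟩, y⟩ => Prod.ext (Subtype.ext ?_) (Subtype.ext ?_)
        · have hr : φ.rangeRestrict (k + σ y) = y := Subtype.ext (by
            simp [LinearMap.mem_ker.1 hk, hσ'])
          simp only [π, LinearMap.coe_comp, Function.comp_apply, LinearMap.coprod_apply,
            LinearMap.prod_apply, Function.prod_apply, LinearMap.codRestrict_apply,
            LinearMap.sub_apply, LinearMap.id_coe, id_eq, Submodule.coe_subtype, hr]
          abel
        · simp [LinearMap.mem_ker.1 hk, hσ'])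
      (LinearMap.ext fun x => by simp [π])
  exact ⟨Module.Finite.of_surjective π fun k => ⟨k, Subtype.ext (by
    have h0 : φ.rangeRestrict (k : N) = 0 := Subtype.ext (LinearMap.mem_ker.1 k.2)
    simp [π, h0])⟩, ⟨e⟩, hfree⟩

/-- A finite module embedded into a finite free module is free. -/
theorem free_of_injective : ∀ (n : ℕ) (N : Type v) [AddCommGroup N] [Module R N] [Module.Finite R N]
    (f : N →ₗ[R] (Fin n → R)), Function.Injective f → Module.Free R N := by
  intro n
  induction n with
  | zero =>
    intro N _ _ _ f hf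
    have : Subsingleton N := hf.subsingleton
    infer_instance
  | succ n ih =>
    intro N _ _ _ f hf
    obtain ⟨hfin, ⟨e⟩, hfree⟩ := exists_splitting (LinearMap.proj (Fin.last n) ∘ₗ f)
    let g : LinearMap.ker (LinearMap.proj (Fin.last n) ∘ₗ f) →ₗ[R] (Fin n → R) :=
      LinearMap.funLeft R R Fin.castSucc ∘ₗ f ∘ₗ Submodule.subtype _
    have hg : Function.Injective g := by
      rw [injective_iff_map_eq_zero]
      intro k hk
      refine Subtype.ext (hf ?_)
      rw [ZeroMemClass.coe_zero, map_zero]
      funext i
      induction i using Fin.lastCases with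
      | last => exact LinearMap.mem_ker.1 k.2
      | cast i => exact congrFun hk i
    have := ih _ g hg
    exact Module.Free.of_equiv e.symm

/-- A finitely generated submodule of a free module is free. -/
theorem free_of_fg {F : Type v} [AddCommGroup F] [Module R F] [Module.Free R F] (N : Submodule R F)
    (hN : N.FG) : Module.Free R N ∧ Module.Finite R N := by
  classical
  have : Module.Finite R N := Module.Finite.iff_fg.2 hN
  refine ⟨?_, this⟩
  obtain ⟨s, hs⟩ := hN
  let b := Module.Free.chooseBasis R F
  let S : Finset (Module.Free.ChooseBasisIndex R F) := s.biUnion fun x => (b.repr x).support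
  let f : N →ₗ[R] (Fin S.card → R) :=
    (LinearMap.pi fun i => b.coord (S.equivFin.symm i : Module.Free.ChooseBasisIndex R F)) ∘ₗ
      N.subtype
  refine free_of_injective _ N f ((injective_iff_map_eq_zero f).2 fun x hx => ?_)
  apply Subtype.ext
  apply b.repr.injective
  rw [ZeroMemClass.coe_zero, map_zero]
  ext i
  by_cases hi : i ∈ S
  · have := congrFun hx (S.equivFin ⟨i, hi⟩)
    simpa [f] using this
  · have hle : N ≤ LinearMap.ker (b.coord i) := by
      rw [← hs, Submodule.span_le]
      intro y hy
      simp only [SetLike.mem_coe, LinearMap.mem_ker, Module.Basis.coord_apply]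
      exact Finsupp.notMem_support_iff.1 fun h => hi (Finset.mem_biUnion.2 ⟨y, hy, h⟩)
    exact hle x.2

/-- A finite torsion-free module is free. -/
theorem free_of_torsionFree {N : Type v} [AddCommGroup N] [Module R N] [Module.Finite R N]
    (h : ∀ (r : R) (x : N), r • x = 0 → r = 0 ∨ x = 0) : Module.Free R N := by
  classical
  obtain ⟨a, π, hπ⟩ := Module.Finite.exists_fin' R N
  let g : Fin a → N := fun i => π (Pi.single i 1)
  -- a maximal independent subfamily of the generators
  obtain ⟨T, hT⟩ := (Set.toFinite {T : Finset (Fin a) |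
    LinearIndependent R fun i : T => g i}).exists_maximal
      ⟨∅, show LinearIndependent R fun i : (∅ : Finset (Fin a)) => g i from linearIndependent_empty_type⟩
  have hTli : LinearIndependent R fun i : T => g i := hT.1
  let W := Submodule.span R (Set.range fun i : T => g i)
  have hmul : ∀ i : Fin a, ∃ c : R, c ≠ 0 ∧ c • g i ∈ W := by
    intro i
    by_cases hi : i ∈ T
    · exact ⟨1, one_ne_zero, by rw [one_smul]; exact Submodule.subset_span ⟨⟨i, hi⟩, rfl⟩⟩
    by_contra! hne
    apply hi
    refine hT.2 (y := insert i T) ?_ (Finset.subset_insert i T) (Finset.mem_insert_self i T)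
    show LinearIndepOn R g ((insert i T : Finset (Fin a)) : Set (Fin a))
    rw [Finset.coe_insert]
    refine LinearIndepOn.insert' hTli fun r hr => ?_
    by_contra hr0
    refine hne r hr0 ?_
    rw [show W = Submodule.span R (g '' (T : Set (Fin a))) by
      rw [Set.image_eq_range]; rfl]
    exact hr
  choose c hc hcW using hmul
  let C := ∏ i, c i
  have hC : C ≠ 0 := Finset.prod_ne_zero_iff.2 fun i _ => hc i
  have hCW : ∀ x, C • x ∈ W := by
    intro x
    obtain ⟨v, rfl⟩ := hπ x
    rw [pi_eq_sum_univ' v, map_sum, Finset.smul_sum]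
    refine Submodule.sum_mem _ fun i _ => ?_
    rw [map_smul, smul_comm]
    refine W.smul_mem _ ?_
    simp only [C]
    rw [← Finset.prod_erase_mul _ _ (Finset.mem_univ i), mul_smul]
    exact W.smul_mem _ (hcW i)
  let f : N →ₗ[R] W := LinearMap.codRestrict W (C • LinearMap.id) hCW
  have : Module.Free R W := Module.Free.of_basis (Module.Basis.span hTli)
  have : Module.Finite R W := Module.Finite.of_basis (Module.Basis.span hTli)
  refine free_of_injective _ N ((Module.finBasis R W).equivFun.toLinearMap ∘ₗ f)
    ((Module.finBasis R W).equivFun.injective.comp ((injective_iff_map_eq_zero f).2 fun x hx => ?_))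
  exact (h C x (congrArg Subtype.val hx)).resolve_left hC

/-- Endomorphisms that factor through a cyclic module `R/(g)`. -/
def cyclicEnd (R : Type u) [CommRing R] (T : Type v) [AddCommGroup T] [Module R T] :
    Set (T →ₗ[R] T) :=
  {e | ∃ (g : R) (i : T →ₗ[R] R ⧸ Ideal.span {g}) (p : (R ⧸ Ideal.span {g}) →ₗ[R] T), e = p ∘ₗ i}

lemma comp_mem_span {T T' : Type v} [AddCommGroup T] [Module R T] [AddCommGroup T'] [Module R T']
    (J : T' →ₗ[R] T) (Q : T →ₗ[R] T') {e : T' →ₗ[R] T'}
    (he : e ∈ Submodule.span R (cyclicEnd R T')) :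
    J ∘ₗ e ∘ₗ Q ∈ Submodule.span R (cyclicEnd R T) := by
  induction he using Submodule.span_induction with
  | mem e he =>
    obtain ⟨g, i, p, rfl⟩ := he
    exact Submodule.subset_span ⟨g, i ∘ₗ Q, J ∘ₗ p, by simp [LinearMap.comp_assoc]⟩
  | zero => simp
  | add e e' _ _ he he' =>
    rw [LinearMap.add_comp, LinearMap.comp_add]; exact Submodule.add_mem _ he he'
  | smul r e _ he =>
    rw [LinearMap.smul_comp, LinearMap.comp_smul]; exact Submodule.smul_mem _ r he

/-- Near a prime, a finitely presented module splits into cyclic pieces. -/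
theorem exists_smul_id_mem (m : Ideal R) [m.IsPrime] : ∀ (n : ℕ) (K : Submodule R (Fin n → R)),
    K.FG → ∃ s ∉ m, (s • LinearMap.id : ((Fin n → R) ⧸ K) →ₗ[R] _) ∈
      Submodule.span R (cyclicEnd R ((Fin n → R) ⧸ K)) := by
  classical
  intro n
  induction n with
  | zero =>
    intro K _
    refine ⟨1, (Ideal.ne_top_iff_one m).1 (Ideal.IsPrime.ne_top'), ?_⟩
    rw [Subsingleton.elim (1 • LinearMap.id : ((Fin 0 → R) ⧸ K) →ₗ[R] _) 0]
    exact Submodule.zero_mem _
  | succ n ih =>
    intro K hK
    by_cases hK0 : K = ⊥
    · refine ⟨1, (Ideal.ne_top_iff_one m).1 (Ideal.IsPrime.ne_top'), ?_⟩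
      have h0 : ∀ j, K ≤ LinearMap.ker (((Ideal.span {(0 : R)}).mkQ) ∘ₗ LinearMap.proj j) := by
        rw [hK0]; exact fun j => bot_le
      have h1 : ∀ j, Ideal.span {(0 : R)} ≤ LinearMap.ker
          (LinearMap.toSpanSingleton R ((Fin (n + 1) → R) ⧸ K) (K.mkQ (Pi.single j 1))) := by
        intro j; rw [Ideal.span_singleton_eq_bot.2 rfl]; exact bot_le
      have key : (1 • LinearMap.id : ((Fin (n + 1) → R) ⧸ K) →ₗ[R] _) =
          ∑ j, (Ideal.span {(0 : R)}).liftQ _ (h1 j) ∘ₗ K.liftQ _ (h0 j) := by
        refine Submodule.linearMap_qext _ (LinearMap.ext fun v => ?_)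
        simp only [LinearMap.coe_comp, Function.comp_apply, LinearMap.coe_sum, Finset.sum_apply,
          Submodule.mkQ_apply, Submodule.liftQ_apply, LinearMap.proj_apply,
          LinearMap.toSpanSingleton_apply, one_smul, LinearMap.id_coe, id_eq]
        conv_lhs => rw [pi_eq_sum_univ' v]
        exact map_sum K.mkQ _ _
      rw [show ((1 : R) • LinearMap.id : ((Fin (n + 1) → R) ⧸ K) →ₗ[R] _) =
        (1 • LinearMap.id : ((Fin (n + 1) → R) ⧸ K) →ₗ[R] _) by simp, key]
      exact Submodule.sum_mem _ fun j _ => Submodule.subset_span ⟨0, _, _, rfl⟩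
    -- the content of `K`
    let c : Fin (n + 1) → Ideal R := fun i => Submodule.map (LinearMap.proj i) K
    have hcfg : (⨆ i, c i : Ideal R).FG := Submodule.fg_iSup _ fun i => hK.map _
    obtain ⟨a, ha⟩ := (IsBezout.isPrincipal_of_FG _ hcfg).principal
    have hdvd : ∀ k ∈ K, ∀ i, a ∣ k i := by
      intro k hk i
      have : k i ∈ ⨆ i, c i := Submodule.mem_iSup_of_mem i ⟨k, hk, rfl⟩
      rw [ha] at this
      exact Ideal.mem_span_singleton.1 this
    have ha0 : a ≠ 0 := by
      intro h0
      apply hK0
      rw [eq_bot_iff]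
      intro k hk
      rw [Submodule.mem_bot]
      funext i
      simpa [h0] using hdvd k hk i
    obtain ⟨i, k₀, hk₀, hs⟩ : ∃ i, ∃ k ∈ K, ∀ t, k i = a * t → t ∉ m := by
      by_contra! h
      apply (inferInstance : m.IsPrime).ne_top
      have hle : (⨆ i, c i : Ideal R) ≤ Ideal.span {a} * m := by
        refine iSup_le fun i => ?_
        rintro _ ⟨k, hk, rfl⟩
        obtain ⟨t, ht, htm⟩ := h i k hk
        show k i ∈ _
        rw [ht]
        exact Ideal.mul_mem_mul (Ideal.mem_span_singleton_self a) htm
      have ha1 : a ∈ Ideal.span {a} * m := hle (ha ▸ Submodule.mem_span_singleton_self a)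
      obtain ⟨t, htm, hta⟩ := Ideal.mem_span_singleton_mul.1 ha1
      rw [Ideal.eq_top_iff_one]
      have : t = 1 := mul_left_cancel₀ ha0 (by rw [hta, mul_one])
      rwa [← this]
    choose w hw using fun j => hdvd k₀ hk₀ j
    have hk₀w : k₀ = a • w := funext fun j => hw j
    have hsm : w i ∉ m := hs _ (hw i)
    -- the cyclic factor
    have hφ : K ≤ LinearMap.ker ((Ideal.span {a}).mkQ ∘ₗ LinearMap.proj i) := fun k hk => by
      simpa [Ideal.mem_span_singleton] using! (Submodule.Quotient.mk_eq_zero (Ideal.span {a})).2
        (Ideal.mem_span_singleton.2 (hdvd k hk i))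
    have hp : Ideal.span {a} ≤
        LinearMap.ker (LinearMap.toSpanSingleton R ((Fin (n + 1) → R) ⧸ K) (K.mkQ w)) := by
      rw [Ideal.span_le, Set.singleton_subset_iff]
      show a • K.mkQ w = 0
      rw [← map_smul, ← hk₀w]
      exact (Submodule.Quotient.mk_eq_zero _).2 hk₀
    let E := (Ideal.span {a}).liftQ _ hp ∘ₗ K.liftQ _ hφ
    -- the remaining coordinates
    let ins : (Fin n → R) →ₗ[R] (Fin (n + 1) → R) :=
      { toFun := fun v => Fin.insertNth i 0 v
        map_add' := fun u v => funext fun l => by
          induction l using Fin.succAboveCases i with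
          | x => simp
          | p j => simp
        map_smul' := fun r v => funext fun l => by
          induction l using Fin.succAboveCases i with
          | x => simp
          | p j => simp }
    let K' : Submodule R (Fin n → R) := K.comap ins
    have hK' : K'.FG := by
      have : Module.Finite R K := Module.Finite.iff_fg.2 hK
      obtain ⟨hker, -, -⟩ := exists_splitting (LinearMap.proj i ∘ₗ K.subtype)
      have hrem : K' = Submodule.map (LinearMap.funLeft R R i.succAbove)
          (Submodule.map K.subtype (LinearMap.ker (LinearMap.proj i ∘ₗ K.subtype))) := by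
        ext v
        constructor
        · intro hv
          exact ⟨ins v, ⟨⟨ins v, hv⟩, by simp [ins], rfl⟩, funext fun j => by simp [ins]⟩
        · rintro ⟨_, ⟨⟨k, hk⟩, hk', rfl⟩, rfl⟩
          show ins (LinearMap.funLeft R R i.succAbove k) ∈ K
          have e : ins (LinearMap.funLeft R R i.succAbove k) = k := funext fun l => by
            induction l using Fin.succAboveCases i with
            | x => simpa [ins] using (LinearMap.mem_ker.1 hk').symm
            | p j => simp [ins]
          rwa [e]
      rw [hrem]
      exact ((Module.Finite.iff_fg.1 hker).map _).map _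
    let q : (Fin (n + 1) → R) →ₗ[R] (Fin n → R) :=
      LinearMap.funLeft R R i.succAbove ∘ₗ (w i • LinearMap.id - (LinearMap.proj i).smulRight w)
    have hins : ∀ v, ins (q v) = w i • v - v i • w := fun v => funext fun l => by
      induction l using Fin.succAboveCases i with
      | x => simp [ins, q, mul_comm]
      | p j => simp [ins, q]
    have hq : K ≤ K'.comap q := by
      intro k hk
      show ins (q k) ∈ K
      obtain ⟨t, ht⟩ := hdvd k hk i
      rw [hins, ht, mul_comm, mul_smul, ← hk₀w]
      exact K.sub_mem (K.smul_mem _ hk) (K.smul_mem _ hk₀)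
    obtain ⟨s', hs', hmem⟩ := ih K' hK'
    refine ⟨s' * w i, fun h => (Ideal.IsPrime.mem_or_mem inferInstance h).elim hs' hsm, ?_⟩
    have key : ((s' * w i) • LinearMap.id : ((Fin (n + 1) → R) ⧸ K) →ₗ[R] _) =
        s' • E + (K'.mapQ K ins le_rfl) ∘ₗ (s' • LinearMap.id) ∘ₗ (K.mapQ K' q hq) := by
      refine Submodule.linearMap_qext _ (LinearMap.ext fun v => ?_)
      simp only [LinearMap.coe_comp, Function.comp_apply, Submodule.mkQ_apply,
        LinearMap.smul_apply, LinearMap.id_coe, id_eq, LinearMap.add_apply, Submodule.mapQ_apply,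
        E, Submodule.liftQ_apply, LinearMap.proj_apply, LinearMap.toSpanSingleton_apply,
        ← Submodule.Quotient.mk_smul, ← Submodule.Quotient.mk_add, hins, map_smul]
      rw [mul_smul, ← smul_add, add_sub_cancel]
    rw [key]
    exact Submodule.add_mem _ (Submodule.smul_mem _ _ (Submodule.subset_span ⟨a, _, _, rfl⟩))
      (comp_mem_span _ _ hmem)

/-- A finitely presented module is built from cyclic modules. -/
theorem id_mem_span (T : Type v) [AddCommGroup T] [Module R T] [Module.FinitePresentation R T] :
    (LinearMap.id : T →ₗ[R] T) ∈ Submodule.span R (cyclicEnd R T) := by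
  obtain ⟨n, π, hπ⟩ := Module.Finite.exists_fin' R T
  have hK : (LinearMap.ker π).FG := Module.FinitePresentation.fg_ker π hπ
  let e := π.quotKerEquivOfSurjective hπ
  let S : Ideal R := (Submodule.span R (cyclicEnd R T)).comap
    (LinearMap.toSpanSingleton R (T →ₗ[R] T) LinearMap.id)
  suffices h : (1 : R) ∈ S by simpa [S] using h
  by_contra h1
  obtain ⟨m, hm, hle⟩ := Ideal.exists_le_maximal S (fun h => h1 (h ▸ Submodule.mem_top))
  obtain ⟨s, hs, hmem⟩ := exists_smul_id_mem m n _ hK
  refine hs (hle ?_)
  show s • LinearMap.id ∈ Submodule.span R (cyclicEnd R T)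
  -- transport along the presentation
  have : ∀ f ∈ Submodule.span R (cyclicEnd R ((Fin n → R) ⧸ LinearMap.ker π)),
      e.toLinearMap ∘ₗ f ∘ₗ e.symm.toLinearMap ∈ Submodule.span R (cyclicEnd R T) := by
    intro f hf
    induction hf using Submodule.span_induction with
    | mem f hf =>
      obtain ⟨g, i, p, rfl⟩ := hf
      exact Submodule.subset_span
        ⟨g, i ∘ₗ e.symm.toLinearMap, e.toLinearMap ∘ₗ p, by simp [LinearMap.comp_assoc]⟩
    | zero => simp
    | add e e' _ _ he he' =>
      rw [LinearMap.add_comp, LinearMap.comp_add]; exact Submodule.add_mem _ he he'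
    | smul r e _ he =>
      rw [LinearMap.smul_comp, LinearMap.comp_smul]; exact Submodule.smul_mem _ r he
  have h2 := this _ hmem
  rw [LinearMap.smul_comp, LinearMap.comp_smul] at h2
  simpa using h2

end Groth.Agent.Bezout
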